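import Groth.Agent.VBCurve.K707.Base
import Groth.Agent.OrdSurf.K841.TorGen
import Groth.Prelude.Def_RefHull

/-!
# Generic stalks and pullback along birational morphisms
-/

set_option autoImplicit false
universe u
open CategoryTheory CategoryTheory.Limits AlgebraicGeometry TopologicalSpace Opposite

namespace K226.BirStalk

open Groth.Agent

theorem nontrivial_of_supp {X : Scheme.{u}} [IrreducibleSpace X] {d : ℕ}
    (hd : topologicalKrullDim X = (d : WithBot ℕ∞)) (M : X.Modules)
    (h : {x : X | Nontrivial (M.presheaf.stalk x)} =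
      ⋃ Z ∈ {Z : Set X | Z ∈ irreducibleComponents X ∧ topologicalKrullDim ↥Z = (d : WithBot ℕ∞)}, Z)
    (x : X) : Nontrivial (M.presheaf.stalk x) := by
  change x ∈ {x : X | Nontrivial (M.presheaf.stalk x)}
  rw [h]
  refine Set.mem_biUnion (x := Set.univ) ⟨?_, ?_⟩ (Set.mem_univ x)
  · rw [irreducibleComponents_eq_singleton]
    exact Set.mem_singleton _
  · rw [← hd]
    exact (Homeomorph.Set.univ X).isHomeomorph.topologicalKrullDim_eq _

theorem eq_zero_of_pullback {X Y : Scheme.{u}} [IsIntegral X] [IsIntegral Y] (f : Y ⟶ X)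
    (hf : f (genericPoint Y) = genericPoint X)
    (hst : Function.Bijective (f.stalkMap (genericPoint Y)).hom) {F M : X.Modules}
    (hM : Coh.IsQCoh M) (htf : TorSh.IsTorsionFree M) (ψ : F ⟶ M)
    (h : RefHull.stalkMapₗ ((Scheme.Modules.pullback f).map ψ) (genericPoint Y) = 0) : ψ = 0 := by
  have h1 : ∀ t : F.presheaf.stalk (f (genericPoint Y)),
      RefHull.stalkMapₗ ψ (f (genericPoint Y)) t = 0 := by
    intro t
    refine _root_.K707.Base.canAdd_injective f M (genericPoint Y) hst ?_
    have h2 := Fdesc.PullbackStalk.stalkMap_pullback_canAdd f ψ (genericPoint Y) t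
    rw [map_zero]
    refine h2.symm.trans ?_
    exact LinearMap.congr_fun h _
  rw [hf] at h1
  ext U s
  change ψ.app U s = 0
  refine K841.TorGen.eq_zero hM htf _ fun hη => ?_
  rw [← RefHull.stalkMapₗ_germ]
  exact h1 _

end K226.BirStalk
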