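import Groth.Agent.CurvesC.DualRep

/-!
# Surjections between top cohomology groups from injections between `Hom` groups

`exists_surjective` : if `(ω, t)` and `(ω', t')` represent `H^d(X, -)^*` and `H^d(Y, -)^*` on `F` and `G`, then
an injective additive map `Hom(F, ω) → Hom(G, ω')` compatible with scalars gives a surjection
`H^d(Y, G) → H^d(X, F)` (for `H^d(X, F)` finite-dimensional).
-/

set_option autoImplicit false
universe u
open CategoryTheory CategoryTheory.Limits AlgebraicGeometry TopologicalSpace Opposite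

noncomputable section

namespace K226.DualSurj

open Groth.Agent.CurvesC

theorem exists_surjective_of_dual {k V W : Type*} [Field k] [AddCommGroup V] [AddCommGroup W]
    [Module k V] [Module k W] [Module.Finite k V] (D : Module.Dual k V →ₗ[k] Module.Dual k W)
    (hD : Function.Injective D) : ∃ φ : W →ₗ[k] V, Function.Surjective φ := by
  let ψ : W →ₗ[k] Module.Dual k (Module.Dual k V) := D.flip
  refine ⟨(Module.evalEquiv k V).symm.toLinearMap ∘ₗ ψ, ?_⟩
  rw [← LinearMap.range_eq_top]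
  by_contra hc
  obtain ⟨θ, hθ, hle⟩ := Submodule.exists_le_ker_of_lt_top _ (lt_top_iff_ne_top.mpr hc)
  refine hθ (hD ?_)
  rw [map_zero]
  ext w
  have h1 : θ ((Module.evalEquiv k V).symm (ψ w)) = 0 := hle ⟨w, rfl⟩
  have h2 : θ ((Module.evalEquiv k V).symm (ψ w)) = ψ w θ := by
    conv_rhs => rw [← (Module.evalEquiv k V).apply_symm_apply (ψ w)]
    rfl
  rw [h2] at h1
  exact h1

variable {k : Type u} [Field k] {X Y : Scheme.{u}} [X.Over (Spec (CommRingCat.of k))]
  [Y.Over (Spec (CommRingCat.of k))]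

theorem exists_surjective {d : ℕ} {F ω : X.Modules} {G ω' : Y.Modules} (t : HV X ω d →ₗ[k] k)
    (t' : HV Y ω' d →ₗ[k] k) [Module.Finite k (Coh.HH X F d)]
    (ht : Function.Bijective (fun φ : F ⟶ ω => t ∘ₗ HV.map k φ d))
    (ht' : Function.Injective (fun φ : G ⟶ ω' => t' ∘ₗ HV.map k φ d))
    (Φ : (F ⟶ ω) → (G ⟶ ω')) (hΦ : Function.Injective Φ)
    (hadd : ∀ ψ ψ', Φ (ψ + ψ') = Φ ψ + Φ ψ')
    (hsmul : ∀ (a : k) ψ, Φ (ψ ≫ Formal.smulMod k ω a) = Φ ψ ≫ Formal.smulMod k ω' a) :
    ∃ φ : Coh.HH Y G d →ₗ[k] Coh.HH X F d, Function.Surjective φ := by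
  let e := Equiv.ofBijective _ ht
  have he : ∀ θ, t ∘ₗ HV.map k (e.symm θ) d = θ := fun θ => e.apply_symm_apply θ
  have hinj : Function.Injective e := e.injective
  have eadd : ∀ θ θ', e.symm (θ + θ') = e.symm θ + e.symm θ' := fun θ θ' => by
    refine ht.1 ?_
    change t ∘ₗ HV.map k (e.symm (θ + θ')) d = t ∘ₗ HV.map k (e.symm θ + e.symm θ') d
    rw [he, HV.map_add, LinearMap.comp_add, he, he]
  have esmul : ∀ (a : k) θ, e.symm (a • θ) = e.symm θ ≫ Formal.smulMod k ω a := fun a θ => by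
    refine ht.1 ?_
    change t ∘ₗ HV.map k (e.symm (a • θ)) d = t ∘ₗ HV.map k (e.symm θ ≫ Formal.smulMod k ω a) d
    rw [he, HV.map_comp, HV.map_smulMod]
    ext x
    have h1 := LinearMap.congr_fun (he θ) x
    change a • θ x = t (a • HV.map k (e.symm θ) d x)
    rw [map_smul]
    exact congrArg (fun z => a • z) h1.symm
  let D : Module.Dual k (HV X F d) →ₗ[k] Module.Dual k (HV Y G d) :=
    { toFun := fun θ => t' ∘ₗ HV.map k (Φ (e.symm θ)) d
      map_add' := fun θ θ' => by rw [eadd, hadd, HV.map_add, LinearMap.comp_add]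
      map_smul' := fun a θ => by
        rw [esmul, hsmul, HV.map_comp, HV.map_smulMod]
        ext x
        change t' (a • HV.map k (Φ (e.symm θ)) d x) = a • t' (HV.map k (Φ (e.symm θ)) d x)
        rw [map_smul] }
  have hfin : Module.Finite k (HV X F d) := inferInstanceAs (Module.Finite k (Coh.HH X F d))
  obtain ⟨φ, hφ⟩ := exists_surjective_of_dual D (fun θ θ' h => by
    exact e.symm.injective (hΦ (ht' h)))
  exact ⟨(HV.equiv k F d).toLinearMap ∘ₗ φ ∘ₗ (HV.equiv k G d).symm.toLinearMap,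
    ((HV.equiv k F d).surjective.comp hφ).comp (HV.equiv k G d).symm.surjective⟩

end K226.DualSurj
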