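import Groth.Agent.Ega2.TensLift
import Groth.Agent.SDiv.K476.HomSh3
import Groth.Prelude.Def_Formal

/-!
# Evaluation of the sheaf of homomorphisms against a morphism

* `evm B χ : homSh A B ⊗ P ⟶ B`, `g ⊗ m ↦ g (χ m)` for `χ : P ⟶ A`
* `stalk_eq_zero_of_evm_eq_zero` : if `A` is of finite presentation, `evm B χ = 0` and the local ring at `y`
  is a field with `B_y ≠ 0`, then `χ_y = 0`.
-/

set_option autoImplicit false
universe u
open CategoryTheory CategoryTheory.Limits AlgebraicGeometry TopologicalSpace Opposite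

noncomputable section

namespace K226.EvPair

open RefHull Groth.Agent.Ega2 K476.HomSh1 Groth.Agent.Ega1.QCohLoc

variable {X : Scheme.{u}} {A P : X.Modules} (B : X.Modules)

/-- The evaluation pairing `g ⊗ m ↦ g (χ m)`. -/
def evm (χ : P ⟶ A) : CohB1.tensorMod (homSh A B) P ⟶ B :=
  Tens.lift (fun U => LinearMap.mk₂ _ (fun g m => secMap g le_rfl (χ.app U m))
    (fun g h m => by rw [secMap_add]; rfl)
    (fun r g m => secMap_smul r g _)
    (fun g m n => by rw [map_add, map_add])
    (fun r g m => by rw [Scheme.Modules.Hom.app_smul, map_smul]))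
    (fun U V i g m => by
      change B.presheaf.map i.op (secMap g le_rfl (χ.app U m)) =
        secMap ((homSh A B).presheaf.map i.op g) le_rfl (χ.app V (P.presheaf.map i.op m))
      rw [← Tens.app_res χ i]
      have h1 := secMap_res (F := A) (G := B) g le_rfl i.le (χ.app U m)
      have h2 := secMap_res_left (F := A) (G := B) g i.le (le_refl V) (A.presheaf.map i.op (χ.app U m))
      exact h1.symm.trans h2.symm)

theorem evm_tmul (χ : P ⟶ A) {U : X.Opens} (g : Γ(homSh A B, U)) (m : Γ(P, U)) :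
    (evm B χ).app U (Tens.tmul g m) = secMap g le_rfl (χ.app U m) :=
  Tens.lift_tmul _ _ _ _ _

theorem evm_add (χ χ' : P ⟶ A) : evm B (χ + χ') = evm B χ + evm B χ' :=
  Tens.hom_ext _ _ fun U g m => by
    change (evm B (χ + χ')).app U (Tens.tmul g m) =
      (evm B χ).app U (Tens.tmul g m) + (evm B χ').app U (Tens.tmul g m)
    rw [evm_tmul, evm_tmul, evm_tmul]
    change secMap g le_rfl (χ.app U m + χ'.app U m) = _
    rw [map_add]

theorem evm_smulMod {R : Type u} [CommRing R] [X.Over (Spec (CommRingCat.of R))] (χ : P ⟶ A) (a : R) :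
    evm B (χ ≫ Formal.smulMod R A a) = evm B χ ≫ Formal.smulMod R B a :=
  Tens.hom_ext _ _ fun U g m => by
    change (evm B (χ ≫ Formal.smulMod R A a)).app U (Tens.tmul g m) =
      (Formal.smulMod R B a).app U ((evm B χ).app U (Tens.tmul g m))
    rw [evm_tmul, evm_tmul]
    exact map_smul (secMap g (le_refl U)) _ _

/-- If the pairing against `χ` vanishes, `A` is of finite presentation, the local ring at `y` is a field
and `B_y ≠ 0`, then `χ_y = 0`. -/
theorem stalk_eq_zero (hA : CohB1.IsFP A) (χ : P ⟶ A) (h : evm B χ = 0) (y : X)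
    (hy : IsField (X.presheaf.stalk y)) (hB : Nontrivial (B.presheaf.stalk y)) :
    stalkMapₗ χ y = 0 := by
  by_contra hc
  obtain ⟨v, hv⟩ : ∃ v : P.presheaf.stalk y, stalkMapₗ χ y v ≠ 0 := by
    by_contra h'
    push Not at h'
    exact hc (LinearMap.ext h')
  -- a linear form not vanishing on `χ v`
  obtain ⟨b, hb⟩ := exists_ne (0 : B.presheaf.stalk y)
  let _ : Field (X.presheaf.stalk y) := hy.toField
  obtain ⟨l, hl⟩ : ∃ l : A.presheaf.stalk y →ₗ[X.presheaf.stalk y] X.presheaf.stalk y,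
      l (stalkMapₗ χ y v) ≠ 0 := by
    by_contra h'
    push Not at h'
    exact hv ((Module.forall_dual_apply_eq_zero_iff (X.presheaf.stalk y) _).mp h')
  let T : StalkHom A B y := l.smulRight b
  have hT : T (stalkMapₗ χ y v) ≠ 0 := by
    intro h0
    exact (smul_ne_zero hl hb) h0
  obtain ⟨θ, hθ⟩ := K476.HomSh3.evalStalk_surjective A B hA y T
  obtain ⟨U, hyU, g, rfl⟩ := TopCat.Presheaf.exists_germ_eq (homSh A B).presheaf θ
  obtain ⟨V, hyV, m, rfl⟩ := TopCat.Presheaf.exists_germ_eq P.presheaf v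
  rw [evalStalk_germ] at hθ
  -- restrict to the intersection
  have hyW : y ∈ U ⊓ V := ⟨hyU, hyV⟩
  let g' : Γ(homSh A B, U ⊓ V) := (homSh A B).presheaf.map (homOfLE (inf_le_left : U ⊓ V ≤ U)).op g
  let m' : Γ(P, U ⊓ V) := P.presheaf.map (homOfLE (inf_le_right : U ⊓ V ≤ V)).op m
  have h1 : (evm B χ).app (U ⊓ V) (Tens.tmul g' m') = 0 := by rw [h]; rfl
  rw [evm_tmul] at h1
  have h2 := congrArg (B.presheaf.germ (U ⊓ V) y hyW) h1
  rw [germ_secMap, map_zero] at h2
  refine hT ?_
  have h3 : A.presheaf.germ (U ⊓ V) y hyW (χ.app (U ⊓ V) m') =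
      stalkMapₗ χ y (P.presheaf.germ V y hyV m) := by
    rw [← stalkMapₗ_germ, TopCat.Presheaf.germ_res_apply]
  rw [h3] at h2
  rw [← hθ]
  exact h2

end K226.EvPair
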