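import Groth.Agent.CycB.CohStalk
import Groth.Agent.QGor.K966.SerreBasic
import Groth.Agent.OrdSurf.K841.TorGen
import Groth.Agent.S6868

/-!
# Torsion-freeness from Serre's condition and full support

`isTorsionFree_of_hasSk`: on an integral locally Noetherian scheme, a coherent module with nonzero generic
stalk satisfying `(S_1)` at every point is torsion-free.
-/

set_option autoImplicit false
universe u
open CategoryTheory CategoryTheory.Limits AlgebraicGeometry TopologicalSpace Opposite

namespace K226.TFStalk

variable {X : Scheme.{u}} [IsIntegral X] [IsLocallyNoetherian X]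

open Groth.Agent.CycB

theorem isTorsionFree_of_hasSk {M : X.Modules} (hM : Coh.IsCoh M)
    (hη : Nontrivial (M.presheaf.stalk (genericPoint X)))
    (hS : ∀ x : X, LocCoh.HasSk 1 (X.presheaf.stalk x) (M.presheaf.stalk x)) :
    TorSh.IsTorsionFree M := by
  intro x
  have hs : (⟨⊥, Ideal.isPrime_bot⟩ : PrimeSpectrum (X.presheaf.stalk x)) ∈
      Module.support (X.presheaf.stalk x) (M.presheaf.stalk x) := by
    refine CohStalk.mem_support_of_nontrivial M (ξ := genericPoint X) hM.1
      (genericPoint_specializes x) ?_ hη
    change (⊥ : Ideal (X.presheaf.stalk x)) = RingHom.ker (Cyc.specMap x (genericPoint X) _)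
    symm
    rw [eq_bot_iff]
    intro a ha
    have h1 := (LocQuot.mem_ker_specMap_iff (genericPoint_specializes x) a).mp ha
    have hf : IsField (X.presheaf.stalk (genericPoint X)) :=
      (show IsField X.functionField from Semifield.toIsField _)
    by_contra h0
    refine h1 ?_
    have h2 : (X.presheaf.stalkSpecializes (genericPoint_specializes x)).hom a ≠ 0 := by
      intro h3
      refine h0 ?_
      have hinj : Function.Injective
          (X.presheaf.stalkSpecializes (genericPoint_specializes x)).hom :=
        IsFractionRing.injective (X.presheaf.stalk x) X.functionField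
      exact hinj (h3.trans (map_zero _).symm)
    obtain ⟨b, hb⟩ := hf.mul_inv_cancel h2
    exact IsUnit.of_mul_eq_one _ hb
  have hfin : Module.Finite (X.presheaf.stalk x) (M.presheaf.stalk x) := CohStalk.finite_stalk M hM x
  have hne : Nontrivial (M.presheaf.stalk x) := by
    by_contra hc
    rw [not_nontrivial_iff_subsingleton] at hc
    rw [Module.support_eq_empty] at hs
    exact hs
  exact ((Groth.Agent.S6868.result (X.presheaf.stalk x) (M.presheaf.stalk x)).2).mpr ⟨hs, hS x⟩

end K226.TFStalk
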